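import Mathlib
import Groth.Agent.Lib.Helper6.McCoy

/-!
Local rings of depth zero: modules with a finite free resolution are free.
-/

set_option autoImplicit false

namespace Groth.Agent.Helper2.HB

open Matrix

universe u

/-- depth zero: a nonzero element killed by the maximal ideal -/
def Depth0 (S : Type u) [CommRing S] [IsLocalRing S] : Prop :=
  ∃ z : S, z ≠ 0 ∧ ∀ x ∈ IsLocalRing.maximalIdeal S, x * z = 0

section

variable {S : Type u} [CommRing S] [IsLocalRing S]

/-- an injective matrix over a depth-zero local ring has a unit maximal minor -/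
lemma exists_isUnit_minor (h0 : Depth0 S) {a b : ℕ} (Φ : Matrix (Fin b) (Fin a) S)
    (hΦ : Function.Injective Φ.mulVecLin) :
    ∃ f : Fin a → Fin b, IsUnit (Φ.submatrix f id).det := by
  classical
  obtain ⟨z, hz0, hz⟩ := h0
  have hnk : ¬ Groth.Agent.Helper6.McCoy.Kills Φ z a := fun hk =>
    hz0 (Groth.Agent.Helper6.McCoy.eq_zero_of_injective Φ hΦ z hk)
  unfold Groth.Agent.Helper6.McCoy.Kills at hnk
  push Not at hnk
  obtain ⟨f, g, hfg⟩ := hnk
  have hu : IsUnit (Φ.submatrix f g).det := by
    rw [← IsLocalRing.notMem_maximalIdeal]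
    intro hmem
    apply hfg
    rw [mul_comm]
    exact hz _ hmem
  have hg : Function.Injective g := by
    by_contra hg
    rw [Function.Injective] at hg
    push Not at hg
    obtain ⟨k, k', hkk', hne⟩ := hg
    have h0 : (Φ.submatrix f g).det = 0 := by
      apply Matrix.det_zero_of_column_eq hne
      intro y
      simp [submatrix_apply, hkk']
    rw [h0] at hu
    exact not_isUnit_zero hu
  have hb : Function.Bijective g := Finite.injective_iff_bijective.mp hg
  let σ : Equiv.Perm (Fin a) := Equiv.ofBijective g hb
  have e1 : Φ.submatrix f g = (Φ.submatrix f id).submatrix id σ := by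
    ext x y; rfl
  rw [e1, Matrix.det_permute'] at hu
  exact ⟨f, isUnit_of_mul_isUnit_right hu⟩

/-- over a depth-zero local ring, a free submodule of a finite free module is a direct summand
with free quotient -/
theorem free_quotient_of_free_submodule (h0 : Depth0 S) {n : ℕ} (K : Submodule S (Fin n → S))
    [Module.Free S K] [Module.Finite S K] :
    Module.Free S ((Fin n → S) ⧸ K) ∧
      Module.finrank S K + Module.finrank S ((Fin n → S) ⧸ K) = n := by
  classical
  let r := Module.finrank S K
  let β : Module.Basis (Fin r) S K := Module.finBasisOfFinrankEq S K rfl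
  let φ : (Fin r → S) →ₗ[S] (Fin n → S) := K.subtype ∘ₗ β.equivFun.symm.toLinearMap
  have hφinj : Function.Injective φ := K.injective_subtype.comp β.equivFun.symm.injective
  let Φ : Matrix (Fin n) (Fin r) S := LinearMap.toMatrix' φ
  have hΦ : Φ.mulVecLin = φ := by
    rw [← Matrix.toLin'_apply', Matrix.toLin'_toMatrix']
  obtain ⟨f, hf⟩ := exists_isUnit_minor h0 Φ (by rw [hΦ]; exact hφinj)
  let B : Matrix (Fin r) (Fin r) S := Φ.submatrix f id
  let ρ : (Fin n → S) →ₗ[S] (Fin r → S) := B⁻¹.mulVecLin ∘ₗ LinearMap.funLeft S S f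
  have hρφ : ∀ w, ρ (φ w) = w := by
    intro w
    have h1 : LinearMap.funLeft S S f (φ w) = B *ᵥ w := by
      rw [← hΦ]
      funext i
      simp [LinearMap.funLeft, Matrix.mulVec, dotProduct, B]
    simp only [ρ, LinearMap.comp_apply, h1, Matrix.mulVecLin_apply, Matrix.mulVec_mulVec]
    rw [Matrix.nonsing_inv_mul _ hf, Matrix.one_mulVec]
  let q : (Fin n → S) →ₗ[S] K := β.equivFun.symm.toLinearMap ∘ₗ ρ
  have hq : ∀ x : K, q x = x := by
    intro x
    have hx : (x : Fin n → S) = φ (β.equivFun x) := by
      simp [φ]
    simp only [q, LinearMap.comp_apply, LinearEquiv.coe_coe]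
    rw [hx, hρφ, LinearEquiv.symm_apply_apply]
  have hc : IsCompl K (LinearMap.ker q) := LinearMap.isCompl_of_proj hq
  let C := LinearMap.ker q
  let e1 : ((Fin n → S) ⧸ K) ≃ₗ[S] C := Submodule.quotientEquivOfIsCompl K C hc
  let e2 : (K × C) ≃ₗ[S] (Fin n → S) := Submodule.prodEquivOfIsCompl K C hc
  haveI hCfin : Module.Finite S C := Module.Finite.equiv e1
  haveI hCproj : Module.Projective S C :=
    Module.Projective.of_split C.subtype (Submodule.projectionOnto C K hc.symm)
      (Submodule.projectionOnto_comp_subtype hc.symm)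
  haveI hCfree : Module.Free S C := Module.free_of_flat_of_isLocalRing
  refine ⟨Module.Free.of_equiv e1.symm, ?_⟩
  have h1 := e2.finrank_eq
  rw [Module.finrank_prod, Module.finrank_fin_fun] at h1
  rw [e1.finrank_eq]
  exact h1

/-- `M` has a finite free resolution with ranks `ns` -/
def HasFFR (S : Type u) [CommRing S] : List ℕ → (M : Type u) → [AddCommGroup M] → [Module S M] →
    Prop
  | [], M, _, _ => Subsingleton M
  | n :: ns, M, _, _ =>
    ∃ p : (Fin n → S) →ₗ[S] M, Function.Surjective p ∧ HasFFR S ns (LinearMap.ker p)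

/-- alternating sum of ranks -/
def alt : List ℕ → ℤ
  | [] => 0
  | n :: ns => n - alt ns

theorem free_of_hasFFR (h0 : Depth0 S) : ∀ (ns : List ℕ) (M : Type u) [AddCommGroup M]
    [Module S M], HasFFR S ns M →
      Module.Free S M ∧ Module.Finite S M ∧ (Module.finrank S M : ℤ) = alt ns := by
  intro ns
  induction ns with
  | nil =>
    intro M _ _ h
    haveI : Subsingleton M := h
    exact ⟨Module.Free.of_subsingleton S M, inferInstance, by
      simp only [alt]
      exact_mod_cast Module.finrank_zero_of_subsingleton⟩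
  | cons n ns ih =>
    intro M _ _ h
    obtain ⟨p, hp, hK⟩ := h
    obtain ⟨hKfree, hKfin, hKrank⟩ := ih (LinearMap.ker p) hK
    haveI := hKfree
    haveI := hKfin
    obtain ⟨hqfree, hqrank⟩ := free_quotient_of_free_submodule h0 (LinearMap.ker p)
    let e : ((Fin n → S) ⧸ LinearMap.ker p) ≃ₗ[S] M := p.quotKerEquivOfSurjective hp
    haveI := hqfree
    refine ⟨Module.Free.of_equiv e, Module.Finite.of_surjective p hp, ?_⟩
    rw [← e.finrank_eq]
    simp only [alt]
    omega

/-- over a depth-zero local ring a free ideal is zero or the unit ideal -/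
theorem ideal_eq_bot_or_top (h0 : Depth0 S) (I : Ideal S) [Module.Free S I] [Module.Finite S I] :
    (Module.finrank S I = 0 ∧ I = ⊥) ∨ (Module.finrank S I = 1 ∧ I = ⊤) := by
  classical
  obtain ⟨z, hz0, hz⟩ := h0
  let r := Module.finrank S I
  let β : Module.Basis (Fin r) S I := Module.finBasisOfFinrankEq S I rfl
  rcases Nat.lt_or_ge r 2 with hr | hr
  · rcases Nat.eq_zero_or_pos r with hr0 | hrpos
    · left
      refine ⟨hr0, ?_⟩
      haveI : IsEmpty (Fin r) := by rw [hr0]; infer_instance
      haveI : Subsingleton I := β.repr.toEquiv.subsingleton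
      exact Submodule.eq_bot_of_subsingleton
    · right
      have hr1 : r = 1 := by omega
      refine ⟨hr1, ?_⟩
      let i0 : Fin r := ⟨0, hrpos⟩
      let x : I := β i0
      have hxu : IsUnit (x : S) := by
        rw [← IsLocalRing.notMem_maximalIdeal]
        intro hmem
        have h1 : z • x = 0 := by
          apply Subtype.ext
          simp only [Submodule.coe_smul, smul_eq_mul, ZeroMemClass.coe_zero]
          rw [mul_comm]
          exact hz _ hmem
        have h2 := congrArg (fun y => β.repr y i0) h1
        simp only [map_smul, Finsupp.smul_apply, map_zero, Finsupp.zero_apply, smul_eq_mul] at h2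
        rw [Module.Basis.repr_self, Finsupp.single_eq_same, mul_one] at h2
        exact hz0 h2
      exact Ideal.eq_top_of_isUnit_mem I x.2 hxu
  · exfalso
    let i0 : Fin r := ⟨0, by omega⟩
    let i1 : Fin r := ⟨1, by omega⟩
    have hne : i0 ≠ i1 := by
      intro h
      have := congrArg Fin.val h
      simp [i0, i1] at this
    let x : I := β i0
    let y : I := β i1
    have hrel : (y : S) • x - (x : S) • y = 0 := by
      apply Subtype.ext
      simp only [Submodule.coe_sub, Submodule.coe_smul, smul_eq_mul, ZeroMemClass.coe_zero]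
      ring
    have h2 := congrArg (fun w => β.repr w i0) hrel
    simp only [map_sub, map_smul, Finsupp.sub_apply, Finsupp.smul_apply, map_zero,
      Finsupp.zero_apply, smul_eq_mul] at h2
    rw [Module.Basis.repr_self, Module.Basis.repr_self, Finsupp.single_eq_same,
      Finsupp.single_eq_of_ne hne, mul_one, mul_zero, sub_zero] at h2
    have hy0 : y = 0 := Subtype.ext h2
    exact β.ne_zero i1 hy0

end

end Groth.Agent.Helper2.HB
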