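import Mathlib

/-!
Exactness of matrix sequences is preserved by localization (elementary version).
-/

set_option autoImplicit false

namespace Groth.Agent.Helper2.HB

open Matrix

universe u v w

variable {R : Type u} [CommRing R] (M : Submonoid R) {S : Type v} [CommRing S] [Algebra R S]
  [IsLocalization M S]


lemma exists_clear_vec {b : ℕ} (v : Fin b → S) :
    ∃ (s : M) (v' : Fin b → R), ∀ i, algebraMap R S (v' i) = algebraMap R S (s : R) * v i := by
  obtain ⟨s, hs⟩ := IsLocalization.exist_integer_multiples_of_finite M v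
  choose v' hv' using hs
  refine ⟨s, v', fun i => ?_⟩
  rw [hv' i, Algebra.smul_def]

lemma map_mulVec {b c : ℕ} (B : Matrix (Fin b) (Fin c) R) (w : Fin c → R) :
    (B.map (algebraMap R S)) *ᵥ (fun k => algebraMap R S (w k)) =
      fun i => algebraMap R S ((B *ᵥ w) i) := by
  funext i
  simp only [Matrix.mulVec, dotProduct, Matrix.map_apply, map_sum, map_mul]

variable {N : Type w} [AddCommGroup N] [Module R N] {N' : Type*} [AddCommGroup N'] [Module S N']
  [Module R N'] [IsScalarTower R S N']

/-- abstract localization of an exact pair `R^c → R^b → N` -/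
theorem ker_eq_range_of_localization {b c : ℕ}
    (ι : N →ₗ[R] N') (hι : ∀ n, ι n = 0 → ∃ t ∈ M, t • n = 0)
    (g : (Fin b → R) →ₗ[R] N) (g' : (Fin b → S) →ₗ[S] N')
    (hg : ∀ v : Fin b → R, g' (fun i => algebraMap R S (v i)) = ι (g v))
    (B : Matrix (Fin b) (Fin c) R) (hex : LinearMap.ker g = LinearMap.range B.mulVecLin) :
    LinearMap.ker g' = LinearMap.range (B.map (algebraMap R S)).mulVecLin := by
  apply le_antisymm
  · intro v hv
    rw [LinearMap.mem_ker] at hv
    obtain ⟨s, v', hv'⟩ := exists_clear_vec M v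
    have hsu : IsUnit (algebraMap R S (s : R)) := IsLocalization.map_units S s
    have h1 : (fun i => algebraMap R S (v' i)) = algebraMap R S (s : R) • v := by
      funext i
      rw [hv' i]
      rfl
    have h2 : ι (g v') = 0 := by
      rw [← hg, h1, map_smul, hv, smul_zero]
    obtain ⟨t, ht, htn⟩ := hι _ h2
    have h3 : t • v' ∈ LinearMap.ker g := by
      rw [LinearMap.mem_ker, map_smul, htn]
    rw [hex] at h3
    obtain ⟨w, hw⟩ := h3
    have htu : IsUnit (algebraMap R S t) := IsLocalization.map_units S ⟨t, ht⟩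
    refine ⟨(↑(htu.unit⁻¹ * hsu.unit⁻¹) : S) • (fun k => algebraMap R S (w k)), ?_⟩
    rw [map_smul, Matrix.mulVecLin_apply, map_mulVec]
    have hw' : ∀ i, (B *ᵥ w) i = t * v' i := by
      intro i
      have := congrFun hw i
      simpa [smul_eq_mul] using this
    funext i
    simp only [Pi.smul_apply, smul_eq_mul, hw' i, map_mul, hv' i, Units.val_mul]
    have e1 : (↑(htu.unit⁻¹) : S) * algebraMap R S t = 1 := htu.val_inv_mul
    have e2 : (↑(hsu.unit⁻¹) : S) * algebraMap R S (s : R) = 1 := hsu.val_inv_mul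
    calc (↑(htu.unit⁻¹) : S) * ↑(hsu.unit⁻¹) * (algebraMap R S t * (algebraMap R S ↑s * v i))
        = ((↑(htu.unit⁻¹) : S) * algebraMap R S t) * ((↑(hsu.unit⁻¹) : S) * algebraMap R S ↑s) *
            v i := by ring
      _ = v i := by rw [e1, e2, one_mul, one_mul]
  · rintro _ ⟨w, rfl⟩
    rw [LinearMap.mem_ker]
    obtain ⟨s, w', hw'⟩ := exists_clear_vec M w
    have hsu : IsUnit (algebraMap R S (s : R)) := IsLocalization.map_units S s
    have h1 : (fun i => algebraMap R S (w' i)) = algebraMap R S (s : R) • w := by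
      funext i
      rw [hw' i]
      rfl
    have h2 : g' ((B.map (algebraMap R S)).mulVecLin (fun i => algebraMap R S (w' i))) = 0 := by
      rw [Matrix.mulVecLin_apply, map_mulVec, hg]
      have : B *ᵥ w' ∈ LinearMap.ker g := by
        rw [hex]
        exact ⟨w', rfl⟩
      rw [LinearMap.mem_ker.mp this, map_zero]
    rw [h1, map_smul, map_smul] at h2
    have := congrArg (fun x => (↑(hsu.unit⁻¹) : S) • x) h2
    simp only [smul_zero, smul_smul] at this
    have e2 : (↑(hsu.unit⁻¹) : S) * algebraMap R S (s : R) = 1 := hsu.val_inv_mul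
    rwa [e2, one_smul] at this

end Groth.Agent.Helper2.HB
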