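import Mathlib
import Groth.Agent.Lib.Helper2.HB.LocExact
import Groth.Agent.Lib.Helper2.HB.Depth0

/-!
Localizing a finite free resolution of an ideal at an associated prime.
-/

set_option autoImplicit false

namespace Groth.Agent.Helper2.HB

open Matrix

universe u

variable {R : Type u} [CommRing R]

section Depth

variable (P : Ideal R) [P.IsPrime]

/-- localization at an associated prime has depth zero -/
lemma depth0_localization [IsNoetherianRing R] (hP : P ∈ associatedPrimes R R) :
    Depth0 (Localization.AtPrime P) := by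
  rw [AssociatedPrimes.mem_iff, isAssociatedPrime_iff] at hP
  obtain ⟨_, z, hz⟩ := hP
  have hmem : ∀ r : R, r ∈ P ↔ r * z = 0 := by
    intro r
    have h1 : r ∈ P ↔ r ∈ (⊥ : Submodule R R).colon {z} := by rw [← hz]
    rw [h1, Submodule.mem_colon_singleton]
    simp [smul_eq_mul]
  refine ⟨algebraMap R _ z, ?_, ?_⟩
  · intro h0
    obtain ⟨s, hs⟩ := (IsLocalization.map_eq_zero_iff P.primeCompl _ z).mp h0
    have : (s : R) ∈ P := (hmem _).mpr hs
    exact s.2 this
  · intro x hx
    rw [← IsLocalization.AtPrime.map_eq_maximalIdeal P (Localization.AtPrime P)] at hx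
    obtain ⟨⟨a, s⟩, h⟩ := (IsLocalization.mem_map_algebraMap_iff P.primeCompl _).mp hx
    have haz : (a : R) * z = 0 := (hmem _).mp a.2
    have hsu : IsUnit (algebraMap R (Localization.AtPrime P) (s : R)) :=
      IsLocalization.map_units _ s
    have h1 : x * algebraMap R (Localization.AtPrime P) z *
        algebraMap R (Localization.AtPrime P) (s : R) = 0 := by
      have : x * algebraMap R (Localization.AtPrime P) z *
          algebraMap R (Localization.AtPrime P) (s : R) =
          (x * algebraMap R (Localization.AtPrime P) (s : R)) *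
            algebraMap R (Localization.AtPrime P) z := by ring
      rw [this, h, ← map_mul, haz, map_zero]
    exact (hsu.mul_left_eq_zero).mp h1

end Depth

section Loc

variable (M : Submonoid R) {S : Type u} [CommRing S] [Algebra R S] [IsLocalization M S]

/-- coordinatewise localization map -/
noncomputable def vecMap (S : Type u) [CommRing S] [Algebra R S] (a : ℕ) :
    (Fin a → R) →ₗ[R] (Fin a → S) :=
  (Algebra.linearMap R S).compLeft (Fin a)

@[simp] lemma vecMap_apply (a : ℕ) (v : Fin a → R) (i : Fin a) :
    vecMap S a v i = algebraMap R S (v i) := rfl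

include M in
lemma vecMap_eq_zero {a : ℕ} (v : Fin a → R) (h : vecMap S a v = 0) : ∃ t ∈ M, t • v = 0 := by
  classical
  have h1 : ∀ i, ∃ m : M, (m : R) * v i = 0 := by
    intro i
    have := congrFun h i
    simp only [vecMap_apply, Pi.zero_apply] at this
    exact (IsLocalization.map_eq_zero_iff M S (v i)).mp this
  choose m hm using h1
  refine ⟨∏ i, (m i : R), Submonoid.prod_mem M (fun i _ => (m i).2), ?_⟩
  funext i
  simp only [Pi.smul_apply, smul_eq_mul, Pi.zero_apply]
  obtain ⟨c, hc⟩ := Finset.dvd_prod_of_mem (fun i => (m i : R)) (Finset.mem_univ i)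
  rw [hc, mul_comm ((m i : R)) c, mul_assoc, hm i, mul_zero]

include M in
theorem ker_map_eq_range_map {a b c : ℕ} (A : Matrix (Fin a) (Fin b) R)
    (B : Matrix (Fin b) (Fin c) R)
    (hex : LinearMap.ker A.mulVecLin = LinearMap.range B.mulVecLin) :
    LinearMap.ker (A.map (algebraMap R S)).mulVecLin =
      LinearMap.range (B.map (algebraMap R S)).mulVecLin := by
  refine ker_eq_range_of_localization M (vecMap S a) (fun v hv => vecMap_eq_zero M v hv)
    A.mulVecLin (A.map (algebraMap R S)).mulVecLin ?_ B hex
  intro v
  rw [Matrix.mulVecLin_apply, map_mulVec]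
  rfl

include M in
theorem ker_map_eq_bot {a b : ℕ} (A : Matrix (Fin a) (Fin b) R)
    (hex : LinearMap.ker A.mulVecLin = ⊥) :
    LinearMap.ker (A.map (algebraMap R S)).mulVecLin = ⊥ := by
  have h0 : ∀ {T : Type u} [CommRing T] (B : Matrix (Fin b) (Fin 0) T),
      LinearMap.range B.mulVecLin = ⊥ := by
    intro T _ B
    rw [eq_bot_iff]
    rintro _ ⟨w, rfl⟩
    have : w = 0 := Subsingleton.elim _ _
    rw [this, map_zero]
    exact Submodule.zero_mem _
  have := ker_map_eq_range_map M (S := S) A (0 : Matrix (Fin b) (Fin 0) R) (by rw [hex, h0])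
  rw [this, h0]

include M in
theorem ker_linearCombination_eq_range_map {b c : ℕ} (p : Fin b → R)
    (B : Matrix (Fin b) (Fin c) R)
    (hex : LinearMap.ker (Fintype.linearCombination R p) = LinearMap.range B.mulVecLin) :
    LinearMap.ker (Fintype.linearCombination S (fun i => algebraMap R S (p i))) =
      LinearMap.range (B.map (algebraMap R S)).mulVecLin := by
  refine ker_eq_range_of_localization M (Algebra.linearMap R S)
    (fun r hr => ?_) (Fintype.linearCombination R p)
    (Fintype.linearCombination S (fun i => algebraMap R S (p i))) ?_ B hex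
  · obtain ⟨m, hm⟩ := (IsLocalization.map_eq_zero_iff M S r).mp hr
    exact ⟨m, m.2, by simpa [smul_eq_mul] using hm⟩
  · intro v
    simp only [Fintype.linearCombination_apply, Algebra.linearMap_apply, map_sum, smul_eq_mul,
      map_mul]

lemma range_linearCombination_map {b : ℕ} (p : Fin b → R) :
    LinearMap.range (Fintype.linearCombination S (fun i => algebraMap R S (p i))) =
      Ideal.map (algebraMap R S) (LinearMap.range (Fintype.linearCombination R p)) := by
  rw [Fintype.range_linearCombination, Fintype.range_linearCombination]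
  change Ideal.span _ = Ideal.map _ (Ideal.span _)
  rw [Ideal.map_span]
  congr 1
  ext x
  simp only [Set.mem_range, Set.mem_image]
  constructor
  · rintro ⟨i, rfl⟩
    exact ⟨p i, ⟨i, rfl⟩, rfl⟩
  · rintro ⟨_, ⟨i, rfl⟩, rfl⟩
    exact ⟨i, rfl⟩

end Loc

end Groth.Agent.Helper2.HB
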