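import Mathlib
import Groth.Agent.Lib.Helper2.HB.FFRLoc

/-!
An ideal with a finite free resolution has rank one and contains a non-zero-divisor.
-/

set_option autoImplicit false

namespace Groth.Agent.Helper2.HB

open Matrix

universe u

/-- ranks `n (j+1), …, n (j+1+d)` -/
def ranks (n : ℕ → ℕ) (j d : ℕ) : List ℕ := (List.range (d + 1)).map fun k => n (j + 1 + k)

lemma ranks_zero (n : ℕ → ℕ) (j : ℕ) : ranks n j 0 = [n (j + 1)] := by
  simp [ranks]

lemma ranks_succ (n : ℕ → ℕ) (j d : ℕ) :
    ranks n j (d + 1) = n (j + 1) :: ranks n (j + 1) d := by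
  unfold ranks
  rw [List.range_succ_eq_map, List.map_cons, List.map_map]
  congr 1
  apply List.map_congr_left
  intro k _
  simp only [Function.comp_apply]
  congr 1
  omega

section Local

variable {S : Type u} [CommRing S] [IsLocalRing S]
variable (e : ℕ) (n : ℕ → ℕ) (A' : (i : ℕ) → Matrix (Fin (n i)) (Fin (n (i + 1))) S)

omit [IsLocalRing S] in
lemma hasFFR_range
    (hA : ∀ i, i + 2 ≤ e →
      LinearMap.ker (A' i).mulVecLin = LinearMap.range (A' (i + 1)).mulVecLin)
    (hlast : LinearMap.ker (A' (e - 1)).mulVecLin = ⊥) :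
    ∀ d j, j + 1 + d = e → HasFFR S (ranks n j d) (LinearMap.range (A' j).mulVecLin) := by
  intro d
  induction d with
  | zero =>
    intro j hj
    rw [ranks_zero]
    have hje : j = e - 1 := by omega
    subst hje
    unfold HasFFR
    refine ⟨(A' (e - 1)).mulVecLin.rangeRestrict, LinearMap.surjective_rangeRestrict _, ?_⟩
    unfold HasFFR
    rw [LinearMap.ker_rangeRestrict, hlast]
    infer_instance
  | succ d ih =>
    intro j hj
    rw [ranks_succ]
    unfold HasFFR
    refine ⟨(A' j).mulVecLin.rangeRestrict, LinearMap.surjective_rangeRestrict _, ?_⟩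
    rw [LinearMap.ker_rangeRestrict, hA j (by omega)]
    exact ih (j + 1) (by omega)

theorem ideal_alt (h0 : Depth0 S) (he : 1 ≤ e) (p' : Fin (n 0) → S)
    (h0' : LinearMap.ker (Fintype.linearCombination S p') = LinearMap.range (A' 0).mulVecLin)
    (hA : ∀ i, i + 2 ≤ e →
      LinearMap.ker (A' i).mulVecLin = LinearMap.range (A' (i + 1)).mulVecLin)
    (hlast : LinearMap.ker (A' (e - 1)).mulVecLin = ⊥) :
    (alt (n 0 :: ranks n 0 (e - 1)) = 0 ∧
        LinearMap.range (Fintype.linearCombination S p') = ⊥) ∨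
      (alt (n 0 :: ranks n 0 (e - 1)) = 1 ∧
        LinearMap.range (Fintype.linearCombination S p') = ⊤) := by
  have hffr : HasFFR S (n 0 :: ranks n 0 (e - 1))
      (LinearMap.range (Fintype.linearCombination S p')) := by
    unfold HasFFR
    refine ⟨(Fintype.linearCombination S p').rangeRestrict,
      LinearMap.surjective_rangeRestrict _, ?_⟩
    rw [LinearMap.ker_rangeRestrict, h0']
    exact hasFFR_range e n A' hA hlast (e - 1) 0 (by omega)
  obtain ⟨hfree, hfin, hrank⟩ := free_of_hasFFR h0 _ _ hffr
  let I : Ideal S := LinearMap.range (Fintype.linearCombination S p')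
  haveI : Module.Free S I := hfree
  haveI : Module.Finite S I := hfin
  have hrank' : (Module.finrank S I : ℤ) = alt (n 0 :: ranks n 0 (e - 1)) := hrank
  rcases ideal_eq_bot_or_top h0 I with ⟨h1, h2⟩ | ⟨h1, h2⟩
  · left
    refine ⟨?_, h2⟩
    rw [← hrank', h1]
    rfl
  · right
    refine ⟨?_, h2⟩
    rw [← hrank', h1]
    rfl

end Local

section Global

variable {R : Type u} [CommRing R] [IsNoetherianRing R]
variable (e : ℕ) (he : 1 ≤ e) (n : ℕ → ℕ)
  (A : (i : ℕ) → Matrix (Fin (n i)) (Fin (n (i + 1))) R) (p : Fin (n 0) → R)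

include he in
theorem local_alt
    (h0 : LinearMap.ker (Fintype.linearCombination R p) = LinearMap.range (A 0).mulVecLin)
    (hA : ∀ i, i + 2 ≤ e →
      LinearMap.ker (A i).mulVecLin = LinearMap.range (A (i + 1)).mulVecLin)
    (hlast : LinearMap.ker (A (e - 1)).mulVecLin = ⊥)
    (P : Ideal R) [P.IsPrime] (hP : P ∈ associatedPrimes R R) :
    (alt (n 0 :: ranks n 0 (e - 1)) = 0 ∧
        Ideal.map (algebraMap R (Localization.AtPrime P))
          (LinearMap.range (Fintype.linearCombination R p)) = ⊥) ∨
      (alt (n 0 :: ranks n 0 (e - 1)) = 1 ∧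
        Ideal.map (algebraMap R (Localization.AtPrime P))
          (LinearMap.range (Fintype.linearCombination R p)) = ⊤) := by
  have hd := depth0_localization P hP
  have := ideal_alt (S := Localization.AtPrime P) e n
    (fun i => (A i).map (algebraMap R (Localization.AtPrime P))) hd he
    (fun i => algebraMap R (Localization.AtPrime P) (p i))
    (ker_linearCombination_eq_range_map P.primeCompl p (A 0) h0)
    (fun i hi => ker_map_eq_range_map P.primeCompl (A i) (A (i + 1)) (hA i hi))
    (ker_map_eq_bot P.primeCompl (A (e - 1)) hlast)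
  rw [range_linearCombination_map] at this
  exact this

include he in
theorem alt_eq_one_and_not_le
    (hI : LinearMap.range (Fintype.linearCombination R p) ≠ ⊥)
    (h0 : LinearMap.ker (Fintype.linearCombination R p) = LinearMap.range (A 0).mulVecLin)
    (hA : ∀ i, i + 2 ≤ e →
      LinearMap.ker (A i).mulVecLin = LinearMap.range (A (i + 1)).mulVecLin)
    (hlast : LinearMap.ker (A (e - 1)).mulVecLin = ⊥) :
    alt (n 0 :: ranks n 0 (e - 1)) = 1 ∧
      ∀ P ∈ associatedPrimes R R, ¬ LinearMap.range (Fintype.linearCombination R p) ≤ P := by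
  have hχ : alt (n 0 :: ranks n 0 (e - 1)) = 1 := by
    by_contra hχ
    apply hI
    by_contra hne
    obtain ⟨x, hxI, hx0⟩ := Submodule.exists_mem_ne_zero_of_ne_bot hne
    obtain ⟨P, hP, hle⟩ := exists_le_isAssociatedPrime_of_isNoetherianRing R x hx0
    haveI := hP.isPrime
    rcases local_alt e he n A p h0 hA hlast P hP with ⟨_, h2⟩ | ⟨h1, _⟩
    · have hfx : algebraMap R (Localization.AtPrime P) x ∈
          Ideal.map (algebraMap R (Localization.AtPrime P))
            (LinearMap.range (Fintype.linearCombination R p)) := Ideal.mem_map_of_mem _ hxI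
      rw [h2, Ideal.mem_bot] at hfx
      obtain ⟨s, hs⟩ := (IsLocalization.map_eq_zero_iff P.primeCompl _ x).mp hfx
      have : (s : R) ∈ (⊥ : Submodule R R).colon {x} := by
        rw [Submodule.mem_colon_singleton]
        simpa [smul_eq_mul] using hs
      exact s.2 (hle this)
    · exact hχ h1
  refine ⟨hχ, fun P hP hle => ?_⟩
  haveI := (AssociatedPrimes.mem_iff.mp hP).isPrime
  rcases local_alt e he n A p h0 hA hlast P hP with ⟨h1, _⟩ | ⟨_, h2⟩
  · rw [hχ] at h1
    exact absurd h1 (by norm_num)
  · have h3 : Ideal.map (algebraMap R (Localization.AtPrime P))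
        (LinearMap.range (Fintype.linearCombination R p)) ≤
        IsLocalRing.maximalIdeal (Localization.AtPrime P) := by
      rw [← IsLocalization.AtPrime.map_eq_maximalIdeal P (Localization.AtPrime P)]
      exact Ideal.map_mono hle
    rw [h2] at h3
    exact (IsLocalRing.maximalIdeal.isMaximal _).ne_top (top_le_iff.mp h3)

omit [IsNoetherianRing R] in
lemma exists_nzd_of_not_le [IsNoetherianRing R] (I : Ideal R)
    (h : ∀ P ∈ associatedPrimes R R, ¬ I ≤ P) : ∃ x ∈ I, x ∈ nonZeroDivisors R := by
  by_contra hcon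
  push Not at hcon
  have hdisj : Disjoint (I : Set R) (nonZeroDivisors R) := by
    rw [Set.disjoint_left]
    intro x hx hx'
    exact hcon x hx hx'
  obtain ⟨P, hP, hle⟩ : ∃ P ∈ associatedPrimes R R, I ≤ P :=
    (I.subset_union_prime_finite (associatedPrimes.finite ..) (f := id) 0 0
      fun _ h _ _ ↦ h.1).1 <|
    biUnion_associatedPrimes_eq_compl_nonZeroDivisors R ▸ hdisj.subset_compl_right
  exact h P hP hle

end Global

end Groth.Agent.Helper2.HB
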