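import Mathlib
import Groth.Prelude.Def_CAlg

/-!
Elementary API for `LocCoh.idealDepth J R ≥ 2`.
-/

set_option autoImplicit false

namespace Groth.Agent.Helper2.HB

universe u

variable {R : Type u} [CommRing R]

/-- `y` is a non-zero-divisor on `R / x R`, in elementary form -/
def RegMod (x y : R) : Prop := ∀ a b : R, y * a = x * b → ∃ c, a = x * c

lemma isSMulRegular_quot_iff (x y : R) :
    IsSMulRegular (QuotSMulTop x R) y ↔ RegMod x y := by
  constructor
  · intro h a b hab
    have h1 : y • (Submodule.Quotient.mk a : QuotSMulTop x R) = 0 := by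
      rw [← Submodule.Quotient.mk_smul, Submodule.Quotient.mk_eq_zero,
        Submodule.mem_smul_pointwise_iff_exists]
      exact ⟨b, Submodule.mem_top, by simpa [smul_eq_mul] using hab.symm⟩
    have h2 : (Submodule.Quotient.mk a : QuotSMulTop x R) = 0 := by
      apply h
      simpa using h1
    rw [Submodule.Quotient.mk_eq_zero, Submodule.mem_smul_pointwise_iff_exists] at h2
    obtain ⟨c, _, hc⟩ := h2
    exact ⟨c, by simpa [smul_eq_mul] using hc.symm⟩
  · intro h
    intro p q hpq
    have hsub : y • (p - q) = 0 := by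
      simp only [smul_sub]
      exact sub_eq_zero.mpr hpq
    obtain ⟨a, ha⟩ := Submodule.Quotient.mk_surjective _ (p - q)
    rw [← ha, ← Submodule.Quotient.mk_smul, Submodule.Quotient.mk_eq_zero,
      Submodule.mem_smul_pointwise_iff_exists] at hsub
    obtain ⟨b, _, hb⟩ := hsub
    obtain ⟨c, hc⟩ := h a b (by simpa [smul_eq_mul] using hb.symm)
    have h0 : (Submodule.Quotient.mk a : QuotSMulTop x R) = 0 := by
      rw [Submodule.Quotient.mk_eq_zero, Submodule.mem_smul_pointwise_iff_exists]
      exact ⟨c, Submodule.mem_top, by simpa [smul_eq_mul] using hc.symm⟩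
    rw [ha] at h0
    exact sub_eq_zero.mp h0

lemma exists_regular_pair_of_depth (J : Ideal R) (h : 2 ≤ LocCoh.idealDepth J R) :
    J = ⊤ ∨ ∃ x ∈ J, ∃ y ∈ J, (∀ a, x * a = 0 → a = 0) ∧ RegMod x y := by
  classical
  unfold LocCoh.idealDepth at h
  by_cases hJ : J • (⊤ : Submodule R R) = ⊤
  · left
    rw [eq_top_iff]
    intro r _
    have hr : r ∈ J • (⊤ : Submodule R R) := by rw [hJ]; exact Submodule.mem_top
    have hle : J • (⊤ : Submodule R R) ≤ J := by
      rw [Submodule.smul_le]
      intro a ha b _
      exact J.mul_mem_right b ha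
    exact hle hr
  · right
    rw [if_neg hJ] at h
    by_contra hcon
    push Not at hcon
    have hle : (⨆ (rs : List R) (_ : RingTheory.Sequence.IsWeaklyRegular R rs ∧ ∀ r ∈ rs, r ∈ J),
        (rs.length : ℕ∞)) ≤ 1 := by
      apply iSup₂_le
      intro rs hrs
      match rs, hrs with
      | [], _ => simp
      | [_], _ => simp
      | x :: y :: rest, ⟨hreg, hmem⟩ =>
        exfalso
        rw [RingTheory.Sequence.isWeaklyRegular_cons_iff] at hreg
        obtain ⟨hx, hrest⟩ := hreg
        rw [RingTheory.Sequence.isWeaklyRegular_cons_iff] at hrest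
        obtain ⟨hy, _⟩ := hrest
        have hxJ : x ∈ J := hmem x (by simp)
        have hyJ : y ∈ J := hmem y (by simp)
        refine hcon x hxJ y hyJ ?_ ((isSMulRegular_quot_iff x y).mp hy)
        intro a ha
        apply hx
        simpa [smul_eq_mul] using ha
    have : (2 : ℕ∞) ≤ 1 := h.trans hle
    exact absurd this (by decide)

lemma depth_ge_two_of_regular_pair (J : Ideal R) (x y : R) (hx : x ∈ J) (hy : y ∈ J)
    (hxr : ∀ a, x * a = 0 → a = 0) (hyr : RegMod x y) : 2 ≤ LocCoh.idealDepth J R := by
  classical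
  unfold LocCoh.idealDepth
  split_ifs with hJ
  · exact le_top
  · have hreg : RingTheory.Sequence.IsWeaklyRegular R [x, y] := by
      rw [RingTheory.Sequence.isWeaklyRegular_cons_iff]
      refine ⟨?_, ?_⟩
      · intro p q hpq
        have : x * (p - q) = 0 := by
          rw [mul_sub]
          exact sub_eq_zero.mpr (by simpa [smul_eq_mul] using hpq)
        exact sub_eq_zero.mp (hxr _ this)
      · rw [RingTheory.Sequence.isWeaklyRegular_cons_iff]
        exact ⟨(isSMulRegular_quot_iff x y).mpr hyr, RingTheory.Sequence.IsWeaklyRegular.nil _ _⟩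
    have hmem : ∀ r ∈ [x, y], r ∈ J := by
      intro r hr
      simp only [List.mem_cons, List.not_mem_nil, or_false] at hr
      rcases hr with rfl | rfl
      · exact hx
      · exact hy
    have := le_iSup₂ (f := fun (rs : List R)
      (_ : RingTheory.Sequence.IsWeaklyRegular R rs ∧ ∀ r ∈ rs, r ∈ J) => (rs.length : ℕ∞))
      [x, y] ⟨hreg, hmem⟩
    simpa using this

end Groth.Agent.Helper2.HB
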