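import Mathlib
import Groth.Prelude.Def_CAlgX

/-!
Maximal minors of a `(t+1) × t` matrix and the bordered determinant.
-/

set_option autoImplicit false

namespace Groth.Agent.Helper2.HB

open Matrix

universe u

variable {R : Type u} [CommRing R] {t : ℕ} (Ψ : Matrix (Fin (t + 1)) (Fin t) R)

/-- the maximal minor with row `i` deleted -/
def dmin (i : Fin (t + 1)) : R := (Ψ.submatrix i.succAbove id).det

lemma det_submatrix_mem (f : Fin t → Fin (t + 1)) (g : Fin t → Fin t) :
    (Ψ.submatrix f g).det ∈ Ideal.span (Set.range (dmin Ψ)) := by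
  classical
  by_cases hg : Function.Injective g
  · have hb : Function.Bijective g := Finite.injective_iff_bijective.mp hg
    let σ : Equiv.Perm (Fin t) := Equiv.ofBijective g hb
    have e1 : Ψ.submatrix f g = (Ψ.submatrix f id).submatrix id σ := by
      ext x y; rfl
    rw [e1, Matrix.det_permute']
    apply Ideal.mul_mem_left
    by_cases hf : Function.Injective f
    · have hns : ¬ Function.Surjective f := by
        intro hs
        have := Fintype.card_le_of_surjective f hs
        simp at this
      simp only [Function.Surjective, not_forall, not_exists] at hns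
      obtain ⟨i, hi⟩ := hns
      have hex : ∀ k, ∃ l, i.succAbove l = f k := fun k => Fin.exists_succAbove_eq (hi k)
      choose τ hτ using hex
      have hτinj : Function.Injective τ := by
        intro k k' hkk'
        apply hf
        rw [← hτ k, ← hτ k', hkk']
      let τe : Equiv.Perm (Fin t) :=
        Equiv.ofBijective τ (Finite.injective_iff_bijective.mp hτinj)
      have e2 : Ψ.submatrix f id = (Ψ.submatrix i.succAbove id).submatrix τe id := by
        ext x y
        simp only [submatrix_apply, id_eq]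
        rw [← hτ x]
        rfl
      rw [e2, Matrix.det_permute]
      apply Ideal.mul_mem_left
      exact Ideal.subset_span ⟨i, rfl⟩
    · rw [Function.Injective] at hf
      push Not at hf
      obtain ⟨k, k', hkk', hne⟩ := hf
      rw [Matrix.det_zero_of_row_eq hne]
      · exact Submodule.zero_mem _
      · funext y
        simp [submatrix_apply, hkk']
  · rw [Function.Injective] at hg
    push Not at hg
    obtain ⟨k, k', hkk', hne⟩ := hg
    rw [Matrix.det_zero_of_column_eq hne]
    · exact Submodule.zero_mem _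
    · intro y
      simp [submatrix_apply, hkk']

theorem minorIdeal_eq : CAlgX.minorIdeal Ψ t = Ideal.span (Set.range (dmin Ψ)) := by
  apply le_antisymm
  · unfold CAlgX.minorIdeal
    rw [Ideal.span_le]
    rintro _ ⟨fg, rfl⟩
    exact det_submatrix_mem Ψ fg.1 fg.2
  · rw [Ideal.span_le]
    rintro _ ⟨i, rfl⟩
    exact Ideal.subset_span ⟨(i.succAbove, id), rfl⟩

/-- the bordered matrix `[v | Ψ]` -/
def bord (v : Fin (t + 1) → R) : Matrix (Fin (t + 1)) (Fin (t + 1)) R :=
  Matrix.of fun i j => (Fin.cons (v i) (Ψ i) : Fin (t + 1) → R) j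

@[simp] lemma bord_zero (v : Fin (t + 1) → R) (i : Fin (t + 1)) : bord Ψ v i 0 = v i := by
  simp [bord]

@[simp] lemma bord_succ (v : Fin (t + 1) → R) (i : Fin (t + 1)) (k : Fin t) :
    bord Ψ v i k.succ = Ψ i k := by
  simp [bord]

lemma bord_submatrix (v : Fin (t + 1) → R) (i : Fin (t + 1)) :
    (bord Ψ v).submatrix i.succAbove Fin.succ = Ψ.submatrix i.succAbove id := by
  ext x y
  simp [submatrix_apply]

theorem det_bord (v : Fin (t + 1) → R) :
    (bord Ψ v).det = ∑ i : Fin (t + 1), (-1) ^ (i : ℕ) * v i * dmin Ψ i := by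
  rw [Matrix.det_succ_column_zero]
  refine Finset.sum_congr rfl fun i _ => ?_
  rw [bord_zero, bord_submatrix, dmin]

theorem det_bord_col (k : Fin t) : (bord Ψ (fun i => Ψ i k)).det = 0 := by
  apply Matrix.det_zero_of_column_eq (i := 0) (j := k.succ) (Fin.succ_ne_zero k).symm
  intro i
  rw [bord_zero, bord_succ]

theorem dmin_smul_mem_range (v : Fin (t + 1) → R) (h : (bord Ψ v).det = 0) (j : Fin (t + 1)) :
    dmin Ψ j • v ∈ LinearMap.range Ψ.mulVecLin := by
  have hmul : bord Ψ v * (bord Ψ v).adjugate = 0 := by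
    rw [Matrix.mul_adjugate, h, zero_smul]
  have hadj : (bord Ψ v).adjugate 0 j = (-1) ^ (j : ℕ) * dmin Ψ j := by
    rw [Matrix.adjugate_fin_succ_eq_det_submatrix]
    have : (0 : Fin (t + 1)).succAbove = Fin.succ := by
      funext x
      simp [Fin.succAbove_zero]
    rw [this, bord_submatrix, dmin]
    simp
  refine ⟨fun k => - ((-1) ^ (j : ℕ) * (bord Ψ v).adjugate k.succ j), ?_⟩
  funext i
  have hij := congrFun (congrFun hmul i) j
  rw [Matrix.mul_apply, Fin.sum_univ_succ] at hij
  simp only [bord_zero, bord_succ, Matrix.zero_apply] at hij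
  rw [hadj] at hij
  simp only [Matrix.mulVecLin_apply, Matrix.mulVec, dotProduct, Pi.smul_apply, smul_eq_mul]
  have hsq : ((-1 : R) ^ (j : ℕ)) * ((-1 : R) ^ (j : ℕ)) = 1 := by
    rw [← pow_add, ← two_mul, pow_mul]
    simp
  have h1 : ∑ k : Fin t, Ψ i k * (bord Ψ v).adjugate k.succ j =
      - (v i * ((-1) ^ (j : ℕ) * dmin Ψ j)) := by
    linear_combination hij
  calc ∑ k : Fin t, Ψ i k * -((-1) ^ (j : ℕ) * (bord Ψ v).adjugate k.succ j)
      = - ((-1) ^ (j : ℕ) * ∑ k : Fin t, Ψ i k * (bord Ψ v).adjugate k.succ j) := by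
        rw [Finset.mul_sum, ← Finset.sum_neg_distrib]
        refine Finset.sum_congr rfl fun k _ => ?_
        ring
    _ = dmin Ψ j * v i := by
        rw [h1]
        linear_combination (v i * dmin Ψ j) * hsq

end Groth.Agent.Helper2.HB
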