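import Mathlib
import Groth.Agent.Lib.Helper2.HB.Depth
import Groth.Agent.Lib.Helper2.HB.Minors
import Groth.Agent.Lib.Helper6.McCoyRank

/-!
Hilbert–Burch, the converse direction: exactness from depth two.
-/

set_option autoImplicit false

namespace Groth.Agent.Helper2.HB

open Matrix

universe u

variable {R : Type u} [CommRing R] {t : ℕ} (Ψ : Matrix (Fin (t + 1)) (Fin t) R)

/-- the signed minors scaled by `a` -/
def Del (a : R) (i : Fin (t + 1)) : R := a * ((-1) ^ (i : ℕ) * dmin Ψ i)

lemma linearCombination_Del (a : R) (v : Fin (t + 1) → R) :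
    Fintype.linearCombination R (Del Ψ a) v = a * (bord Ψ v).det := by
  rw [Fintype.linearCombination_apply, det_bord, Finset.mul_sum]
  refine Finset.sum_congr rfl fun i _ => ?_
  simp only [Del, smul_eq_mul]
  ring

lemma det_bord_mulVec (w : Fin t → R) : (bord Ψ (Ψ *ᵥ w)).det = 0 := by
  rw [det_bord]
  have h1 : ∀ i : Fin (t + 1), (-1 : R) ^ (i : ℕ) * (Ψ *ᵥ w) i * dmin Ψ i =
      ∑ k : Fin t, w k * ((-1) ^ (i : ℕ) * Ψ i k * dmin Ψ i) := by
    intro i
    simp only [Matrix.mulVec, dotProduct, Finset.mul_sum, Finset.sum_mul]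
    refine Finset.sum_congr rfl fun k _ => ?_
    ring
  simp_rw [h1]
  rw [Finset.sum_comm]
  refine Finset.sum_eq_zero fun k _ => ?_
  rw [← Finset.mul_sum]
  have := det_bord_col Ψ k
  rw [det_bord] at this
  rw [this, mul_zero]

lemma smul_mem_range_of_mem (v : Fin (t + 1) → R) (h : (bord Ψ v).det = 0) (g : R)
    (hg : g ∈ CAlgX.minorIdeal Ψ t) : g • v ∈ LinearMap.range Ψ.mulVecLin := by
  rw [minorIdeal_eq] at hg
  refine Submodule.span_induction (p := fun g _ => g • v ∈ LinearMap.range Ψ.mulVecLin)
    ?_ ?_ ?_ ?_ hg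
  · rintro _ ⟨j, rfl⟩
    exact dmin_smul_mem_range Ψ v h j
  · rw [zero_smul]
    exact Submodule.zero_mem _
  · intro x y _ _ hx hy
    rw [add_smul]
    exact Submodule.add_mem _ hx hy
  · intro r x _ hx
    rw [smul_eq_mul, mul_smul]
    exact Submodule.smul_mem _ r hx

/-- a regular element in the ideal of maximal minors -/
lemma exists_regular_of_depth (hdepth : 2 ≤ LocCoh.idealDepth (CAlgX.minorIdeal Ψ t) R) :
    ∃ x ∈ CAlgX.minorIdeal Ψ t, ∀ a, x * a = 0 → a = 0 := by
  rcases exists_regular_pair_of_depth _ hdepth with hJ | ⟨x, hx, _, _, hxr, _⟩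
  · exact ⟨1, by rw [hJ]; exact Submodule.mem_top, fun a ha => by simpa using ha⟩
  · exact ⟨x, hx, hxr⟩

theorem injective_of_regular_mem (x : R) (hx : x ∈ CAlgX.minorIdeal Ψ t)
    (hxr : ∀ a, x * a = 0 → a = 0) : Function.Injective Ψ.mulVecLin := by
  apply Groth.Agent.Helper6.McCoy.injective_of_kills
  intro c hc
  have h1 : c ∈ (CAlgX.minorIdeal Ψ t).annihilator :=
    (Groth.Agent.Helper6.McCoy.mem_annihilator_minorIdeal_iff Ψ c t).mpr hc
  have h2 := Submodule.mem_annihilator.mp h1 x hx
  apply hxr
  rw [mul_comm]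
  simpa [smul_eq_mul] using h2

theorem ker_le_range (hdepth : 2 ≤ LocCoh.idealDepth (CAlgX.minorIdeal Ψ t) R)
    (v : Fin (t + 1) → R) (h : (bord Ψ v).det = 0) : v ∈ LinearMap.range Ψ.mulVecLin := by
  rcases exists_regular_pair_of_depth _ hdepth with hJ | ⟨x, hx, y, hy, hxr, hyr⟩
  · have := smul_mem_range_of_mem Ψ v h 1 (by rw [hJ]; exact Submodule.mem_top)
    rwa [one_smul] at this
  · have hinj := injective_of_regular_mem Ψ x hx hxr
    obtain ⟨w₁, hw₁⟩ := smul_mem_range_of_mem Ψ v h x hx
    obtain ⟨w₂, hw₂⟩ := smul_mem_range_of_mem Ψ v h y hy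
    have heq : y • w₁ = x • w₂ := by
      apply hinj
      rw [map_smul, map_smul, hw₁, hw₂, smul_smul, smul_smul, mul_comm]
    have hc : ∀ k, ∃ c, w₁ k = x * c := by
      intro k
      have hk := congrFun heq k
      simp only [Pi.smul_apply, smul_eq_mul] at hk
      exact hyr (w₁ k) (w₂ k) hk
    choose c hc using hc
    refine ⟨c, ?_⟩
    have hw : w₁ = x • c := by
      funext k
      simp [hc k]
    rw [hw, map_smul] at hw₁
    funext i
    have hi := congrFun hw₁ i
    simp only [Pi.smul_apply, smul_eq_mul] at hi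
    have : x * (Ψ.mulVecLin c i - v i) = 0 := by
      rw [mul_sub, hi, sub_self]
    exact sub_eq_zero.mp (hxr _ this)

theorem hb_exact (hdepth : 2 ≤ LocCoh.idealDepth (CAlgX.minorIdeal Ψ t) R)
    (a : R) (ha : a ∈ nonZeroDivisors R) :
    LinearMap.ker Ψ.mulVecLin = ⊥ ∧
      LinearMap.ker (Fintype.linearCombination R (Del Ψ a)) = LinearMap.range Ψ.mulVecLin ∧
      LinearMap.range (Fintype.linearCombination R (Del Ψ a)) =
        Ideal.span {a} * CAlgX.minorIdeal Ψ t := by
  obtain ⟨x, hx, hxr⟩ := exists_regular_of_depth Ψ hdepth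
  refine ⟨LinearMap.ker_eq_bot.mpr (injective_of_regular_mem Ψ x hx hxr), ?_, ?_⟩
  · apply le_antisymm
    · intro v hv
      rw [LinearMap.mem_ker, linearCombination_Del] at hv
      have hdet : (bord Ψ v).det = 0 := by
        have := (mem_nonZeroDivisors_iff.mp ha).2 _ (by rw [mul_comm]; exact hv)
        exact this
      exact ker_le_range Ψ hdepth v hdet
    · rintro _ ⟨w, rfl⟩
      rw [LinearMap.mem_ker, linearCombination_Del, Matrix.mulVecLin_apply, det_bord_mulVec,
        mul_zero]
  · rw [Fintype.range_linearCombination]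
    apply le_antisymm
    · rw [Submodule.span_le]
      rintro _ ⟨i, rfl⟩
      apply Ideal.mul_mem_mul (Ideal.mem_span_singleton_self a)
      apply Ideal.mul_mem_left
      rw [minorIdeal_eq]
      exact Ideal.subset_span ⟨i, rfl⟩
    · rw [Ideal.mul_le]
      intro r hr s hs
      obtain ⟨c, rfl⟩ := Ideal.mem_span_singleton'.mp hr
      have has : a * s ∈ Submodule.span R (Set.range (Del Ψ a)) := by
        rw [minorIdeal_eq] at hs
        refine Submodule.span_induction
          (p := fun s _ => a * s ∈ Submodule.span R (Set.range (Del Ψ a))) ?_ ?_ ?_ ?_ hs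
        · rintro _ ⟨i, rfl⟩
          have hsq : ((-1 : R) ^ (i : ℕ)) * ((-1 : R) ^ (i : ℕ)) = 1 := by
            rw [← pow_add, ← two_mul, pow_mul]
            simp
          have : a * dmin Ψ i = ((-1 : R) ^ (i : ℕ)) • Del Ψ a i := by
            simp only [Del, smul_eq_mul]
            linear_combination (- a * dmin Ψ i) * hsq
          rw [this]
          exact Submodule.smul_mem _ _ (Submodule.subset_span ⟨i, rfl⟩)
        · rw [mul_zero]
          exact Submodule.zero_mem _
        · intro p q _ _ hp hq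
          rw [mul_add]
          exact Submodule.add_mem _ hp hq
        · intro r p _ hp
          have : a * (r • p) = r • (a * p) := by
            simp only [smul_eq_mul]
            ring
          rw [this]
          exact Submodule.smul_mem _ r hp
      have : c * a * s = c • (a * s) := by
        simp only [smul_eq_mul]
        ring
      rw [this]
      exact Submodule.smul_mem _ c has

end Groth.Agent.Helper2.HB
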