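import Mathlib
import Groth.Agent.Lib.Helper2.HB.FFR
import Groth.Agent.Lib.Helper2.HB.Exact

/-!
The Hilbert–Burch theorem for a length-one free resolution of an ideal.
-/

set_option autoImplicit false

namespace Groth.Agent.Helper2.HB

open Matrix

universe u

variable {R : Type u} [CommRing R] [IsNoetherianRing R]

/-- ranks of the two-term resolution -/
def nn (n m : ℕ) : ℕ → ℕ
  | 0 => n
  | _ + 1 => m

/-- matrices of the two-term resolution -/
def AA {n m : ℕ} (Ψ : Matrix (Fin n) (Fin m) R) :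
    (i : ℕ) → Matrix (Fin (nn n m i)) (Fin (nn n m (i + 1))) R
  | 0 => Ψ
  | _ + 1 => 0

theorem hb_rank {n m : ℕ} (Ψ : Matrix (Fin n) (Fin m) R) (p : Fin n → R)
    (hΨ : LinearMap.ker Ψ.mulVecLin = ⊥)
    (hex : LinearMap.ker (Fintype.linearCombination R p) = LinearMap.range Ψ.mulVecLin)
    (hI : LinearMap.range (Fintype.linearCombination R p) ≠ ⊥) :
    n = m + 1 ∧
      ∀ P ∈ associatedPrimes R R, ¬ LinearMap.range (Fintype.linearCombination R p) ≤ P := by
  have h := alt_eq_one_and_not_le (R := R) 1 le_rfl (nn n m) (AA Ψ) p hI hex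
    (fun i hi => absurd hi (by omega)) hΨ
  refine ⟨?_, h.2⟩
  have h1 := h.1
  simp only [ranks, alt, nn] at h1
  simp [alt] at h1
  omega

/-- the ideal of maximal minors of an injective matrix contains a non-zero-divisor -/
theorem exists_nzd_minorIdeal {n m : ℕ} (Ψ : Matrix (Fin n) (Fin m) R)
    (hinj : Function.Injective Ψ.mulVecLin) :
    ∃ x ∈ CAlgX.minorIdeal Ψ m, x ∈ nonZeroDivisors R := by
  apply exists_nzd_of_not_le
  intro P hP hle
  rw [AssociatedPrimes.mem_iff, isAssociatedPrime_iff] at hP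
  obtain ⟨hprime, z, hz⟩ := hP
  have hmem : ∀ r : R, r ∈ P ↔ r * z = 0 := by
    intro r
    have h1 : r ∈ P ↔ r ∈ (⊥ : Submodule R R).colon {z} := by rw [← hz]
    rw [h1, Submodule.mem_colon_singleton]
    simp [smul_eq_mul]
  have hz0 : z ≠ 0 := by
    intro h0
    apply hprime.ne_top
    rw [eq_top_iff]
    intro r _
    rw [hmem, h0, mul_zero]
  apply hz0
  apply Groth.Agent.Helper6.McCoy.eq_zero_of_injective Ψ hinj z
  rw [← Groth.Agent.Helper6.McCoy.mem_annihilator_minorIdeal_iff]
  rw [Submodule.mem_annihilator]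
  intro g hg
  rw [smul_eq_mul, mul_comm]
  exact (hmem g).mp (hle hg)

section Main

variable {m : ℕ} (Ψ : Matrix (Fin (m + 1)) (Fin m) R) (p : Fin (m + 1) → R)

/-- injectivity modulo a regular element -/
lemma injective_map_mk (x : R) (hx : ∀ a, x * a = 0 → a = 0)
    (hΨ : Function.Injective Ψ.mulVecLin)
    (hex : LinearMap.ker (Fintype.linearCombination R p) = LinearMap.range Ψ.mulVecLin) :
    Function.Injective (Ψ.map (Ideal.Quotient.mk (Ideal.span {x}))).mulVecLin := by
  rw [injective_iff_map_eq_zero]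
  intro wbar hw
  have hsurj : ∀ k, ∃ r : R, Ideal.Quotient.mk (Ideal.span {x}) r = wbar k :=
    fun k => Ideal.Quotient.mk_surjective _
  choose w hw' using hsurj
  have h1 : ∀ i, (Ψ *ᵥ w) i ∈ Ideal.span {x} := by
    intro i
    rw [← Ideal.Quotient.eq_zero_iff_mem]
    have := congrFun hw i
    simp only [Matrix.mulVecLin_apply, Matrix.mulVec, dotProduct, Matrix.map_apply,
      Pi.zero_apply] at this
    simp only [Matrix.mulVec, dotProduct, map_sum, map_mul, hw']
    exact this
  have h2 : ∀ i, ∃ u : R, (Ψ *ᵥ w) i = x * u := by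
    intro i
    obtain ⟨u, hu⟩ := Ideal.mem_span_singleton'.mp (h1 i)
    exact ⟨u, by rw [← hu, mul_comm]⟩
  choose u hu using h2
  have h3 : Ψ *ᵥ w = x • u := by
    funext i
    simp [hu i]
  have h4 : u ∈ LinearMap.ker (Fintype.linearCombination R p) := by
    rw [LinearMap.mem_ker]
    have h5 : Fintype.linearCombination R p (x • u) = 0 := by
      have : x • u ∈ LinearMap.ker (Fintype.linearCombination R p) := by
        rw [hex, ← h3]
        exact ⟨w, rfl⟩
      exact LinearMap.mem_ker.mp this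
    rw [map_smul, smul_eq_mul] at h5
    exact hx _ h5
  rw [hex] at h4
  obtain ⟨w', hw''⟩ := h4
  have h6 : w = x • w' := by
    apply hΨ
    rw [map_smul, hw'', Matrix.mulVecLin_apply, h3]
  funext k
  rw [← hw' k, h6]
  simp only [Pi.smul_apply, smul_eq_mul, map_mul, Pi.zero_apply]
  have : Ideal.Quotient.mk (Ideal.span {x}) x = 0 :=
    Ideal.Quotient.eq_zero_iff_mem.mpr (Ideal.mem_span_singleton_self x)
  rw [this, zero_mul]

lemma minorIdeal_map_le {S : Type u} [CommRing S] (f : R →+* S) :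
    CAlgX.minorIdeal (Ψ.map f) m ≤ Ideal.map f (CAlgX.minorIdeal Ψ m) := by
  unfold CAlgX.minorIdeal
  rw [Ideal.span_le]
  rintro _ ⟨fg, rfl⟩
  have : ((Ψ.map f).submatrix fg.1 fg.2).det = f ((Ψ.submatrix fg.1 fg.2).det) := by
    rw [RingHom.map_det]
    rfl
  show ((Ψ.map f).submatrix fg.1 fg.2).det ∈ _
  rw [this]
  exact Ideal.mem_map_of_mem f (Ideal.subset_span ⟨fg, rfl⟩)

/-- a regular pair in the ideal of maximal minors -/
theorem exists_regular_pair (hΨ : Function.Injective Ψ.mulVecLin)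
    (hex : LinearMap.ker (Fintype.linearCombination R p) = LinearMap.range Ψ.mulVecLin) :
    ∃ x ∈ CAlgX.minorIdeal Ψ m, ∃ y ∈ CAlgX.minorIdeal Ψ m,
      (∀ a, x * a = 0 → a = 0) ∧ RegMod x y := by
  obtain ⟨x, hxJ, hxn⟩ := exists_nzd_minorIdeal Ψ hΨ
  have hx : ∀ a, x * a = 0 → a = 0 := fun a ha =>
    (mem_nonZeroDivisors_iff.mp hxn).1 a ha
  have hinj' := injective_map_mk Ψ p x hx hΨ hex
  obtain ⟨ybar, hyJ, hyn⟩ := exists_nzd_minorIdeal
    (Ψ.map (Ideal.Quotient.mk (Ideal.span {x}))) hinj'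
  have hyJ' := minorIdeal_map_le Ψ (Ideal.Quotient.mk (Ideal.span {x})) hyJ
  obtain ⟨y, hy, rfl⟩ := (Ideal.mem_map_iff_of_surjective _ Ideal.Quotient.mk_surjective).mp hyJ'
  refine ⟨x, hxJ, y, hy, hx, ?_⟩
  intro a b hab
  have h1 : Ideal.Quotient.mk (Ideal.span {x}) y * Ideal.Quotient.mk (Ideal.span {x}) a = 0 := by
    rw [← map_mul, hab, map_mul]
    have : Ideal.Quotient.mk (Ideal.span {x}) x = 0 :=
      Ideal.Quotient.eq_zero_iff_mem.mpr (Ideal.mem_span_singleton_self x)
    rw [this, zero_mul]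
  have h2 := (mem_nonZeroDivisors_iff.mp hyn).1 _ h1
  rw [Ideal.Quotient.eq_zero_iff_mem] at h2
  obtain ⟨c, hc⟩ := Ideal.mem_span_singleton'.mp h2
  exact ⟨c, by rw [← hc, mul_comm]⟩

/-- Hilbert–Burch, explicit form: the generators are a non-zero-divisor times the signed maximal
minors. -/
theorem hilbert_burch_Del (hΨ : LinearMap.ker Ψ.mulVecLin = ⊥)
    (hex : LinearMap.ker (Fintype.linearCombination R p) = LinearMap.range Ψ.mulVecLin)
    (hI : LinearMap.range (Fintype.linearCombination R p) ≠ ⊥) :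
    (∃ a : R, a ∈ nonZeroDivisors R ∧ p = Del Ψ a) ∧
      2 ≤ LocCoh.idealDepth (CAlgX.minorIdeal Ψ m) R := by
  have hinj : Function.Injective Ψ.mulVecLin := LinearMap.ker_eq_bot.mp hΨ
  obtain ⟨x, hxJ, y, hyJ, hxr, hyr⟩ := exists_regular_pair Ψ p hinj hex
  have hdepth : 2 ≤ LocCoh.idealDepth (CAlgX.minorIdeal Ψ m) R :=
    depth_ge_two_of_regular_pair _ x y hxJ hyJ hxr hyr
  refine ⟨?_, hdepth⟩
  obtain ⟨_, hker1, hrange1⟩ := hb_exact Ψ hdepth 1 (one_mem _)
  rw [Ideal.span_singleton_one, Ideal.top_mul] at hrange1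
  -- cross relations
  have hcross : ∀ i j, p i * Del Ψ 1 j = p j * Del Ψ 1 i := by
    intro i j
    classical
    let v : Fin (m + 1) → R := Del Ψ 1 j • Pi.single i 1 - Del Ψ 1 i • Pi.single j 1
    have hv : v ∈ LinearMap.ker (Fintype.linearCombination R (Del Ψ 1)) := by
      rw [LinearMap.mem_ker]
      simp only [v, map_sub, map_smul, Fintype.linearCombination_apply_single, smul_eq_mul,
        one_mul]
      ring
    rw [hker1, ← hex, LinearMap.mem_ker] at hv
    simp only [v, map_sub, map_smul, Fintype.linearCombination_apply_single, smul_eq_mul,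
      one_mul] at hv
    linear_combination hv
  -- x and y as values of Δ
  obtain ⟨c, hc⟩ : x ∈ LinearMap.range (Fintype.linearCombination R (Del Ψ 1)) := by
    rw [hrange1]; exact hxJ
  obtain ⟨c', hc'⟩ : y ∈ LinearMap.range (Fintype.linearCombination R (Del Ψ 1)) := by
    rw [hrange1]; exact hyJ
  set a' := Fintype.linearCombination R p c with ha'
  set b' := Fintype.linearCombination R p c' with hb'
  have hxa : ∀ j, x * p j = a' * Del Ψ 1 j := by
    intro j
    rw [← hc, ha', Fintype.linearCombination_apply, Fintype.linearCombination_apply,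
      Finset.sum_mul, Finset.sum_mul]
    refine Finset.sum_congr rfl fun i _ => ?_
    simp only [smul_eq_mul]
    rw [mul_assoc, mul_assoc, hcross i j, mul_comm (p j)]
  have hyb : ∀ j, y * p j = b' * Del Ψ 1 j := by
    intro j
    rw [← hc', hb', Fintype.linearCombination_apply, Fintype.linearCombination_apply,
      Finset.sum_mul, Finset.sum_mul]
    refine Finset.sum_congr rfl fun i _ => ?_
    simp only [smul_eq_mul]
    rw [mul_assoc, mul_assoc, hcross i j, mul_comm (p j)]
  have hkill : ∀ j, (y * a' - x * b') * Del Ψ 1 j = 0 := by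
    intro j
    have h1 := hxa j
    have h2 := hyb j
    linear_combination y * h1.symm + x * h2
  have hkillx : (y * a' - x * b') * x = 0 := by
    have hx' : x = ∑ i, c i * Del Ψ 1 i := by
      rw [← hc, Fintype.linearCombination_apply]
      simp only [smul_eq_mul]
    calc (y * a' - x * b') * x
        = (y * a' - x * b') * ∑ i, c i * Del Ψ 1 i := by rw [← hx']
      _ = ∑ i, c i * ((y * a' - x * b') * Del Ψ 1 i) := by
          rw [Finset.mul_sum]
          refine Finset.sum_congr rfl fun i _ => ?_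
          ring
      _ = 0 := by
          refine Finset.sum_eq_zero fun i _ => ?_
          rw [hkill i, mul_zero]
  have hya : y * a' = x * b' := by
    have := hxr _ (by rw [mul_comm]; exact hkillx)
    exact sub_eq_zero.mp this
  obtain ⟨a, ha⟩ := hyr a' b' hya
  have hpa : ∀ j, p j = Del Ψ a j := by
    intro j
    have h1 := hxa j
    rw [ha] at h1
    have h2 : x * (p j - a * Del Ψ 1 j) = 0 := by
      rw [mul_sub, h1]
      ring
    have h3 := sub_eq_zero.mp (hxr _ h2)
    rw [h3]
    simp [Del]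
  have hpfun : p = Del Ψ a := funext hpa
  -- `a` is a non-zero-divisor
  obtain ⟨_, hnot⟩ := hb_rank Ψ p hΨ hex hI
  obtain ⟨u, huI, hun⟩ := exists_nzd_of_not_le _ hnot
  have han : a ∈ nonZeroDivisors R := by
    obtain ⟨r, hr⟩ := huI
    have hu : u = a * Fintype.linearCombination R (Del Ψ 1) r := by
      rw [← hr, hpfun, Fintype.linearCombination_apply, Fintype.linearCombination_apply,
        Finset.mul_sum]
      refine Finset.sum_congr rfl fun i _ => ?_
      simp only [Del, smul_eq_mul]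
      ring
    rw [mem_nonZeroDivisors_iff]
    constructor
    · intro w hw
      apply (mem_nonZeroDivisors_iff.mp hun).1
      rw [hu, mul_right_comm, hw, zero_mul]
    · intro w hw
      apply (mem_nonZeroDivisors_iff.mp hun).2
      rw [hu, ← mul_assoc, hw, zero_mul]
  exact ⟨a, han, hpfun⟩

theorem hilbert_burch (hΨ : LinearMap.ker Ψ.mulVecLin = ⊥)
    (hex : LinearMap.ker (Fintype.linearCombination R p) = LinearMap.range Ψ.mulVecLin)
    (hI : LinearMap.range (Fintype.linearCombination R p) ≠ ⊥) :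
    (∃ a : R, a ∈ nonZeroDivisors R ∧
        LinearMap.range (Fintype.linearCombination R p) =
          Ideal.span {a} * CAlgX.minorIdeal Ψ m) ∧
      2 ≤ LocCoh.idealDepth (CAlgX.minorIdeal Ψ m) R := by
  obtain ⟨⟨a, han, hpfun⟩, hdepth⟩ := hilbert_burch_Del Ψ p hΨ hex hI
  refine ⟨⟨a, han, ?_⟩, hdepth⟩
  rw [hpfun]
  exact (hb_exact Ψ hdepth a han).2.2

end Main

end Groth.Agent.Helper2.HB
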