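import Mathlib
import Groth.Prelude
import Groth.Agent.Lib.Helper2.HB.Burch
import Groth.Agent.Lib.Helper2.BE.Setup
import Groth.Agent.Lib.Helper8.FlatReg5
import Groth.Agent.Lib.Helper8.Depth17
import Groth.Agent.Lib.Helper8.ABS3

/-!
# Hilbert–Burch structure theorem for Cohen–Macaulay quotients of codimension two (helper2)

If `A` is a regular local ring and `A ⧸ I` is Cohen–Macaulay of dimension `dim A - 2`, then `I` is
generated by the signed maximal minors of an `(r+1) × r` matrix which resolves it.
-/

set_option autoImplicit false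
universe u

namespace Groth.Agent.Helper2.HB

open LocCoh IsLocalRing CategoryTheory Groth.Agent.Helper8.Depth Groth.Agent.Helper8.ABS
  Groth.Agent.Helper2.BE

variable (A : Type u) [CommRing A] [IsRegularLocalRing A] (I : Ideal A)
  [hB : IsCohenMacaulayLocalRing (A ⧸ I)]

/-- Auslander–Buchsbaum: a Cohen–Macaulay quotient of codimension two of a regular local ring has
projective dimension two. -/
theorem pdLE_quotient_two (hcodim : ringKrullDim (A ⧸ I) + 2 = ringKrullDim A) :
    PdLE A (A ⧸ I) 2 := by
  have : IsLocalRing (A ⧸ I) := inferInstance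
  have : IsNoetherianRing (A ⧸ I) := inferInstance
  have : IsLocalHom (algebraMap A (A ⧸ I)) :=
    IsLocalHom.of_surjective (Ideal.Quotient.mk I) Ideal.Quotient.mk_surjective
  have hA : IsCohenMacaulayModule A A :=
    (Groth.Agent.Helper8.FlatReg.isCohenMacaulayLocalRing_of_isRegularLocalRing A).supportDim_eq_depth
  have hBB : IsCohenMacaulayModule (A ⧸ I) (A ⧸ I) := hB.supportDim_eq_depth
  obtain ⟨d, hd, hdd⟩ := cm_exists_nat hA
  obtain ⟨c, hc, hcd⟩ := cm_exists_nat hBB
  rw [Module.supportDim_self_eq_ringKrullDim] at hd hc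
  have hcd2 : c + 2 = d := by
    rw [hd, hc] at hcodim
    exact_mod_cast hcodim
  have hdepth : depth A (A ⧸ I) = c := by
    rw [depth_eq_of_tower A (A ⧸ I) (A ⧸ I), hcd]
  have hpd : HasProjectiveDimensionLT (ModuleCat.of A (A ⧸ I)) (d + 1) :=
    hasProjectiveDimensionLT_of_regular_finite d A hd (A ⧸ I)
  obtain ⟨e, hed, he⟩ := exists_projectiveDimension_eq (A ⧸ I) d hpd
  have hab := auslander_buchsbaum A (A ⧸ I) e he
  rw [hdd, hdepth] at hab
  have he2 : e = 2 := by
    have : d = e + c := by exact_mod_cast hab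
    omega
  subst he2
  unfold PdLE
  exact (projectiveDimension_le_iff _ 2).mp he.le

/-- The module of relations between generators of `I` is free. -/
theorem free_ker (hcodim : ringKrullDim (A ⧸ I) + 2 = ringKrullDim A) {n : ℕ} (g : Fin n → A)
    (hg : Ideal.span (Set.range g) = I) :
    Module.Free A (LinearMap.ker (Fintype.linearCombination A g)) := by
  have h2 := pdLE_quotient_two A I hcodim
  have h1 : PdLE A I 1 :=
    (pdLE_succ_iff_of_exact (Submodule.subtype I) (Submodule.mkQ I) (Submodule.subtype_injective I)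
      (Submodule.mkQ_surjective I) (LinearMap.exact_subtype_mkQ I) 1).mp h2
  have hmem : ∀ v, Fintype.linearCombination A g v ∈ I := by
    intro v
    rw [← hg]
    have := LinearMap.mem_range_self (Fintype.linearCombination A g) v
    rw [Fintype.range_linearCombination] at this
    exact this
  set π' : (Fin n → A) →ₗ[A] I := (Fintype.linearCombination A g).codRestrict I hmem with hπ'
  have hsurj : Function.Surjective π' := by
    rintro ⟨x, hx⟩
    have hx' : x ∈ LinearMap.range (Fintype.linearCombination A g) := by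
      rw [Fintype.range_linearCombination]
      rw [← hg] at hx
      exact hx
    obtain ⟨v, hv⟩ := hx'
    exact ⟨v, Subtype.ext hv⟩
  have hex : Function.Exact (LinearMap.ker (Fintype.linearCombination A g)).subtype π' := by
    rw [LinearMap.exact_iff, Submodule.range_subtype, hπ', LinearMap.ker_codRestrict]
  have h0 : PdLE A (LinearMap.ker (Fintype.linearCombination A g)) 0 :=
    (pdLE_succ_iff_of_exact (LinearMap.ker (Fintype.linearCombination A g)).subtype π'
      (Submodule.subtype_injective _) hsurj hex 0).mp h1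
  exact free_of_projective_local h0

omit [IsRegularLocalRing A] hB in
/-- A matrix whose columns form a basis of a submodule of `A^n`. -/
theorem exists_matrix_of_free {n : ℕ} (K : Submodule A (Fin n → A)) [Nontrivial A]
    [Module.Free A K] [Module.Finite A K] :
    ∃ (s : ℕ) (Ψ : Matrix (Fin n) (Fin s) A), LinearMap.ker Ψ.mulVecLin = ⊥ ∧
      LinearMap.range Ψ.mulVecLin = K := by
  let b := Module.finBasis A K
  refine ⟨Module.finrank A K, Matrix.of (fun i j => (b j : Fin n → A) i), ?_, ?_⟩
  all_goals
    have hΨ : (Matrix.of (fun i j => (b j : Fin n → A) i)).mulVecLin =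
        K.subtype ∘ₗ (b.equivFun.symm : (Fin (Module.finrank A K) → A) →ₗ[A] K) := by
      apply LinearMap.ext
      intro w
      funext i
      simp only [Matrix.mulVecLin_apply, Matrix.mulVec, dotProduct, Matrix.of_apply,
        LinearMap.coe_comp, Function.comp_apply, LinearEquiv.coe_coe, Submodule.subtype_apply,
        Module.Basis.equivFun_symm_apply, Submodule.coe_sum, Submodule.coe_smul, Finset.sum_apply,
        Pi.smul_apply, smul_eq_mul]
      exact Finset.sum_congr rfl fun j _ => mul_comm _ _
  · rw [hΨ, LinearMap.ker_comp, Submodule.ker_subtype, Submodule.comap_bot]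
    exact LinearMap.ker_eq_bot.mpr (LinearEquiv.injective _)
  · rw [hΨ, LinearMap.range_comp, LinearEquiv.range, Submodule.map_top, Submodule.range_subtype]

/-- **Hilbert–Burch structure theorem.** -/
theorem exists_maximalMinors_resolution (hcodim : ringKrullDim (A ⧸ I) + 2 = ringKrullDim A) :
    ∃ (r : ℕ) (φ : Matrix (Fin (r + 1)) (Fin r) A),
      Ideal.span (Set.range (fun i : Fin (r + 1) =>
        (-1 : A) ^ (i : ℕ) * (φ.submatrix i.succAbove id).det)) = I ∧
      I.spanFinrank = r + 1 ∧
      Function.Injective φ.mulVecLin ∧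
      LinearMap.range φ.mulVecLin =
        LinearMap.ker (Fintype.linearCombination A (fun i : Fin (r + 1) =>
          (-1 : A) ^ (i : ℕ) * (φ.submatrix i.succAbove id).det)) := by
  classical
  have hloc : IsLocalRing (A ⧸ I) := inferInstance
  have hntB : Nontrivial (A ⧸ I) := inferInstance
  -- `I ≠ ⊥`
  have hA : IsCohenMacaulayModule A A :=
    (Groth.Agent.Helper8.FlatReg.isCohenMacaulayLocalRing_of_isRegularLocalRing A).supportDim_eq_depth
  obtain ⟨d, hd, -⟩ := cm_exists_nat hA
  rw [Module.supportDim_self_eq_ringKrullDim] at hd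
  obtain ⟨c, hc, -⟩ := cm_exists_nat hB.supportDim_eq_depth
  rw [Module.supportDim_self_eq_ringKrullDim] at hc
  have hcd2 : c + 2 = d := by
    have h := hcodim
    rw [hd, hc] at h
    exact_mod_cast h
  have hI0 : I ≠ ⊥ := by
    intro h0
    have h1 : ringKrullDim (A ⧸ I) = ringKrullDim A := by
      rw [h0]
      exact ringKrullDim_eq_of_ringEquiv (RingEquiv.quotientBot A)
    rw [hc, hd] at h1
    have : c = d := by exact_mod_cast h1
    omega
  -- generators
  obtain ⟨s, hscard, hsspan⟩ :=
    Submodule.FG.exists_span_finset_card_eq_spanFinrank (IsNoetherian.noetherian I)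
  obtain ⟨n, hn⟩ : ∃ n, n = s.card := ⟨_, rfl⟩
  let eqv : Fin n ≃ s := (hn ▸ s.equivFin.symm)
  let g : Fin n → A := fun i => (eqv i : A)
  have hrange : Set.range g = (s : Set A) := by
    ext x
    constructor
    · rintro ⟨i, rfl⟩
      exact (eqv i).2
    · intro hx
      exact ⟨eqv.symm ⟨x, hx⟩, by simp [g]⟩
  have hg : Ideal.span (Set.range g) = I := by rw [hrange]; exact hsspan
  have hfree := free_ker A I hcodim g hg
  obtain ⟨m, Ψ, hΨ, hΨr⟩ := exists_matrix_of_free A (LinearMap.ker (Fintype.linearCombination A g))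
  have hIr : LinearMap.range (Fintype.linearCombination A g) ≠ ⊥ := by
    rw [Fintype.range_linearCombination]
    intro h
    exact hI0 (hg ▸ h)
  obtain ⟨hnm, -⟩ := hb_rank Ψ g hΨ hΨr.symm hIr
  subst hnm
  obtain ⟨⟨a, han, hga⟩, -⟩ := hilbert_burch_Del Ψ g hΨ hΨr.symm hIr
  -- `a` is a unit
  have hIa : I ≤ Ideal.span {a} := by
    rw [← hg, Ideal.span_le]
    rintro _ ⟨i, rfl⟩
    rw [hga]
    exact Ideal.mem_span_singleton'.mpr ⟨_, mul_comm _ _⟩
  have hau : IsUnit a := by
    by_contra hnu
    have ham : a ∈ Ring.jacobson A := by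
      rw [IsLocalRing.ringJacobson_eq_maximalIdeal]
      exact hnu
    have hreg : IsSMulRegular A a := by
      intro x y hxy
      have h1 : a * (x - y) = 0 := by
        have : a * x = a * y := hxy
        rw [mul_sub, this, sub_self]
      exact sub_eq_zero.mp ((mem_nonZeroDivisors_iff.mp han).1 _ h1)
    have h1 := ringKrullDim_quotient_span_singleton_succ_eq_ringKrullDim_of_mem_jacobson hreg ham
    have h2 : ringKrullDim (A ⧸ Ideal.span {a}) ≤ ringKrullDim (A ⧸ I) :=
      ringKrullDim_le_of_surjective (Ideal.Quotient.factor hIa)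
        (Ideal.Quotient.factor_surjective hIa)
    rw [hc] at h2
    rw [hd] at h1
    have h3 : (d : WithBot ℕ∞) ≤ ((c + 1 : ℕ) : WithBot ℕ∞) := by
      rw [← h1]
      push_cast
      gcongr
    have : d ≤ c + 1 := by exact_mod_cast h3
    omega
  obtain ⟨u, rfl⟩ := hau
  have hfg : ∀ i : Fin (m + 1), (-1 : A) ^ (i : ℕ) * (Ψ.submatrix i.succAbove id).det = ↑u⁻¹ * g i := by
    intro i
    rw [hga]
    simp only [Del, dmin]
    rw [← mul_assoc, Units.inv_mul, one_mul]
  have hgf : ∀ i : Fin (m + 1), g i = (u : A) * ((-1 : A) ^ (i : ℕ) * (Ψ.submatrix i.succAbove id).det) := by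
    intro i
    rw [hfg i, ← mul_assoc, Units.mul_inv, one_mul]
  refine ⟨m, Ψ, ?_, ?_, LinearMap.ker_eq_bot.mp hΨ, ?_⟩
  · apply le_antisymm
    · rw [Ideal.span_le]
      rintro _ ⟨i, rfl⟩
      show (-1 : A) ^ (i : ℕ) * (Ψ.submatrix i.succAbove id).det ∈ I
      rw [hfg i, ← hg]
      exact Ideal.mul_mem_left _ _ (Ideal.subset_span ⟨i, rfl⟩)
    · rw [← hg, Ideal.span_le]
      rintro _ ⟨i, rfl⟩
      rw [hgf i]
      exact Ideal.mul_mem_left _ _ (Ideal.subset_span ⟨i, rfl⟩)
  · rw [← hscard, ← hn]
  · rw [hΨr]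
    ext v
    rw [LinearMap.mem_ker, LinearMap.mem_ker, Fintype.linearCombination_apply,
      Fintype.linearCombination_apply]
    have hsum : ∑ i, v i • g i =
        (u : A) * ∑ i, v i • ((-1 : A) ^ (i : ℕ) * (Ψ.submatrix i.succAbove id).det) := by
      rw [Finset.mul_sum]
      refine Finset.sum_congr rfl fun i _ => ?_
      rw [hgf i]
      simp only [smul_eq_mul]
      ring
    rw [hsum]
    constructor
    · intro h
      exact (mem_nonZeroDivisors_iff.mp han).1 _ h
    · intro h
      rw [h, mul_zero]

end Groth.Agent.Helper2.HB
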